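import Cfsg.Agent.Leech.CrossMax
import Cfsg.Agent.M24Centralizer.Translations

/-!
Literal data for an involution centraliser in `Cfsg.Spor.Co2`: roots of the fixed lattice, generators
and a breadth-first tree on the 63 nonzero vectors modulo two.
-/

set_option autoImplicit false

namespace CfsgLib.Co2Invol.InvolData

open CfsgLib.Leech

/-- positions of the octad -/
def opos : List ℕ := [23, 0, 1, 2, 3, 5, 14, 17]

/-- six roots forming a hyperbolic basis modulo two, and two linking roots -/
def rootB : List (List ℤ) :=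
  [[-4, 4, 0, 0, 0, 0, 0, 0],
   [0, 0, -4, -4, 0, 0, 0, 0],
   [0, 0, 0, 0, -4, -4, 0, 0],
   [-2, 2, -2, 2, -2, 2, -2, 2],
   [0, 0, -4, 0, 0, 0, 0, -4],
   [0, 0, 0, 0, -4, 0, 4, 0],
   [0, 0, -4, 0, -4, 0, 0, 0],
   [0, 0, -4, 0, 0, -4, 0, 0]]

/-- code words disjoint from the octad -/
def compMasks : List ℕ :=
  [0, 337856, 628112, 832080, 1161408, 1351424, 1584464, 1903248, 2141072, 2460752, 2702848, 2890176, 3216208, 3421328, 3704512, 4038912, 4202192, 4536592, 4819776, 5024896, 5350928, 5538256, 5780352, 6100032, 6337856, 6656640, 6889680, 7079696, 7409024, 7612992, 7903248, 8241104]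

/-- generators of the centraliser modulo the kernel; the last acts as a transvection -/
def invGens : List (List Mv) :=
  [[.mono 674968338574719292425535774039592744692738629564563991 0],
   [.mono 675348306143558700731917061694349608816792540628976151 0],
   [.mono 566073426779046459040877649791461066728553822781039575296 36294],
   [.xi, .mono 50288405128786743959737961413862489908319483914524753921 0],
   [.mono 675348306143558700731917061694349608816792540628976151 258862]]

/-- rows of their matrices modulo two -/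
def genRows : List (List ℕ) :=
  [[1, 16, 20, 8, 38, 36], [17, 26, 4, 8, 16, 32], [25, 10, 4, 8, 16, 32], [2, 3, 7, 24, 43, 32], [25, 26, 4, 8, 16, 32]]

/-- the vector of the last generator -/
def rootVec : ℕ := 3

/-- tree steps: child, generator, parent -/
def orbitSteps : List (ℕ × ℕ × ℕ) :=
  [(17, 0, 3), (1, 3, 3), (7, 0, 17), (18, 1, 17), (16, 2, 17), (30, 3, 17), (22, 3, 1), (37, 0, 7), (5, 3, 7), (19, 2, 18), (31, 3, 18), (6, 0, 16), (8, 3, 16), (42, 0, 30), (28, 2, 30), (34, 0, 22), (21, 1, 22), (23, 2, 22), (27, 3, 22), (53, 0, 5), (9, 3, 19), (43, 0, 31), (29, 2, 31), (36, 0, 6), (10, 1, 8), (11, 2, 8), (24, 3, 8), (40, 0, 42), (41, 2, 42), (63, 3, 42), (58, 0, 28), (20, 3, 28), (32, 0, 34), (39, 3, 34), (51, 0, 21), (26, 3, 21), (35, 0, 23), (13, 3, 23), (25, 2, 27), (54, 1, 53), (52, 2, 53), (14, 3, 9), (59, 0, 29), (2, 3, 29), (4, 0, 36), (15, 3, 10), (56, 0, 40), (57, 0, 41), (62, 3, 41), (61, 2, 63), (46, 0, 58), (55, 3, 58), (50, 0, 20), (12, 3, 20), (48, 0, 32), (33, 0, 35), (49, 3,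 35), (60, 3, 52), (44, 0, 14), (47, 0, 59), (45, 0, 15), (38, 0, 50)]

end CfsgLib.Co2Invol.InvolData
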