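import Cfsg.Agent.Co2Invol.Psi
import Cfsg.Agent.GolayOrbits.OctadAction
import Cfsg.Agent.FGS74.Cubic.Extra

/-!
The kernel of the representation modulo two: the elements trivial on the fixed lattice, an
extraspecial group of order 512.
-/

set_option autoImplicit false

namespace CfsgLib.Co2Invol

open Cfsg CfsgLib.Mathieu CfsgLib.Leech InvolData
open M24Centralizer (oct tb T T_mem T_zero T_fix_oct idx_T T_mul)
open Spor (leechU)
open scoped symmDiff Pointwise

attribute [local irreducible] roots8 perp8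

theorem cf_bv : ∀ j : Fin 8, ∀ k : Fin 3 ⊕ Fin 3,
    ((dotL (rootN j) (rootN (ix (Sum.swap k)).val) / 16 : ℤ) : ZMod 2) =
      ((dotL (rootN j) ((rootN (ix (Sum.swap k)).val).map Neg.neg) / 16 : ℤ) : ZMod 2) := by
  decide +kernel

theorem cf_basis : ∀ j k : Fin 3 ⊕ Fin 3,
    ((dotL (rootN (ix j).val) (rootN (ix (Sum.swap k)).val) / 16 : ℤ) : ZMod 2) =
      if k = j then 1 else 0 := by
  decide +kernel

theorem cf_bv_eq (j : Fin 8) (k : Fin 3 ⊕ Fin 3) :
    cf (bv j) k = ((dotL (rootN j) (rootN (ix (Sum.swap k)).val) / 16 : ℤ) : ZMod 2) := by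
  rw [cf, dot2_eq (proot_bv j)]
  simp only [bv, res8_bv]

theorem psiM_fix {g : Co0} (h : ∀ j, g • bv j = bv j) : psiM g = 1 := by
  ext k j
  rw [psiM, Matrix.of_apply, h, cf_bv_eq, cf_basis, Matrix.one_apply]

theorem res8_neg (x : GolayPt → ℤ) : res8 (-x) = (res8 x).map Neg.neg := by
  simp [res8, List.map_map, Function.comp_def]

theorem ext_res8 {x y : leechLattice} (hx : Supp (x : GolayPt → ℤ)) (hy : Supp (y : GolayPt → ℤ))
    (h : res8 (x : GolayPt → ℤ) = res8 (y : GolayPt → ℤ)) : x = y :=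
  Subtype.ext (by rw [hx.eq_vec, hy.eq_vec, h])

theorem supp_neg {x : leechLattice} (hx : Supp (x : GolayPt → ℤ)) :
    Supp ((-x : leechLattice) : GolayPt → ℤ) := fun p hp => by
  show -(x : GolayPt → ℤ) p = 0
  rw [hx p hp, neg_zero]

/-- a root with the class of a listed root -/
theorem eq_bv_of_class {x : leechLattice} (hx : PRoot x) (j : Fin 8)
    (h : ∀ k, cf x k = cf (bv j) k) : x = bv j ∨ x = -bv j := by
  have h1 := List.all_eq_true.1 (List.all_eq_true.1 perp_fibre _ hx.mem) j.val (List.mem_range.2 j.2)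
  rw [Bool.or_eq_true, Bool.or_eq_true, Bool.not_eq_true', beq_iff_eq, beq_iff_eq] at h1
  rcases h1 with h1 | h1 | h1
  · exfalso
    rw [← Bool.not_eq_true, List.all_eq_true] at h1
    refine h1 fun k hk => ?_
    rw [List.mem_range] at hk
    obtain ⟨k', hk'⟩ : ∃ k' : Fin 3 ⊕ Fin 3, (ix (Sum.swap k')).val = pr k :=
      (by decide : ∀ n : Fin 6, ∃ k' : Fin 3 ⊕ Fin 3, (ix (Sum.swap k')).val = pr n.val) ⟨k, hk⟩
    have h2 := h k'
    rw [cf_bv_eq, cf, dot2_eq hx] at h2
    simp only [bv, res8_bv] at h2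
    rw [hk'] at h2
    rw [beq_iff_eq]
    exact Int.emod_eq_zero_of_dvd ((ZMod.intCast_eq_intCast_iff_dvd_sub _ _ 2).1 h2.symm)
  · exact Or.inl (ext_res8 hx.1 (proot_bv j).1 (by rw [h1]; exact (res8_bv j).symm))
  · refine Or.inr (ext_res8 hx.1 (supp_neg (proot_bv j).1) ?_)
    rw [h1, show ((-bv j : leechLattice) : GolayPt → ℤ) = -(bv j : GolayPt → ℤ) from rfl, res8_neg]
    simp only [bv, res8_bv]

variable {g : Co0}

theorem basis_sign (hg : g ∈ C0) (h1 : psiM g = 1) (j : Fin 3 ⊕ Fin 3) :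
    g • bv (ix j) = bv (ix j) ∨ g • bv (ix j) = -bv (ix j) :=
  eq_bv_of_class ((proot_bv _).smul hg) _ fun k => by
    rw [cf_bv_eq, cf_basis, show cf (g • bv (ix j)) k = psiM g k j from rfl, h1, Matrix.one_apply]

theorem all_sign (hg : g ∈ C0) (h1 : psiM g = 1) (j : Fin 8) :
    g • bv j = bv j ∨ g • bv j = -bv j := by
  refine eq_bv_of_class ((proot_bv _).smul hg) _ fun k => ?_
  have hi : psiM g⁻¹ = 1 := by
    have h := psiM_mul hg (inv_mem hg)
    rw [h1, inv_mul_cancel, Matrix.mul_one, psiM_fix fun i => one_smul _ _] at h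
    exact h.symm
  rw [cf, ← dot2_smul g⁻¹, inv_smul_smul, cf]
  rcases basis_sign (inv_mem hg) hi (Sum.swap k) with e | e <;> rw [e]
  rw [dot2_eq (proot_bv j), dot2_eq (proot_bv j),
    show ((-bv (ix (Sum.swap k)) : leechLattice) : GolayPt → ℤ) =
      -(bv (ix (Sum.swap k)) : GolayPt → ℤ) from rfl, res8_neg]
  simp only [bv, res8_bv]
  exact (cf_bv j k).symm

theorem sign_uniform (hg : g ∈ C0) (h1 : psiM g = 1) :
    ∃ s : ℤ, (s = 1 ∨ s = -1) ∧ ∀ j, g • bv j = s • bv j := by
  have he : ∀ j : Fin 8, ∃ s : ℤ, (s = 1 ∨ s = -1) ∧ g • bv j = s • bv j := fun j => by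
    rcases all_sign hg h1 j with e | e
    · exact ⟨1, Or.inl rfl, by rw [e, one_smul]⟩
    · exact ⟨-1, Or.inr rfl, by rw [e, neg_smul, one_smul]⟩
  choose s hs he using he
  have link : ∀ a b : Fin 8, dotInt (bv a : GolayPt → ℤ) (bv b : GolayPt → ℤ) ≠ 0 → s a = s b := by
    intro a b hab
    have h := co0_dot g (bv a) (bv b)
    rw [he a, he b] at h
    rcases hs a with ea | ea <;> rcases hs b with eb | eb <;> rw [ea, eb] at h ⊢
    all_goals
      simp [dotInt, Finset.sum_neg_distrib] at h hab ⊢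
      omega
  have hd : ∀ e ∈ [((6 : Fin 8), (3 : Fin 8)), (6, 1), (6, 2), (0, 3), (1, 4), (2, 5), (7, 1)],
      dotInt (bv e.1 : GolayPt → ℤ) (bv e.2 : GolayPt → ℤ) ≠ 0 := by
    simp only [List.mem_cons, List.not_mem_nil, or_false, forall_eq_or_imp, forall_eq]
    exact (by decide +kernel :
      dotInt (vec (emb8 (rootN 6))) (vec (emb8 (rootN 3))) ≠ 0 ∧
      dotInt (vec (emb8 (rootN 6))) (vec (emb8 (rootN 1))) ≠ 0 ∧
      dotInt (vec (emb8 (rootN 6))) (vec (emb8 (rootN 2))) ≠ 0 ∧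
      dotInt (vec (emb8 (rootN 0))) (vec (emb8 (rootN 3))) ≠ 0 ∧
      dotInt (vec (emb8 (rootN 1))) (vec (emb8 (rootN 4))) ≠ 0 ∧
      dotInt (vec (emb8 (rootN 2))) (vec (emb8 (rootN 5))) ≠ 0 ∧
      dotInt (vec (emb8 (rootN 7))) (vec (emb8 (rootN 1))) ≠ 0)
  simp only [List.mem_cons, List.not_mem_nil, or_false, forall_eq_or_imp, forall_eq] at hd
  obtain ⟨d3, d1, d2, d03, d14, d25, d71⟩ := hd
  have e3 := link _ _ d3
  have e1 := link _ _ d1
  have e2 := link _ _ d2
  have e03 := link _ _ d03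
  have e14 := link _ _ d14
  have e25 := link _ _ d25
  have e71 := link _ _ d71
  refine ⟨s 6, hs 6, fun j => ?_⟩
  rw [he j]
  congr 1
  fin_cases j <;> simp_all

/-- an element trivial modulo two is a sign on the roots orthogonal to the fixed vector -/
theorem perp_sign (hg : g ∈ C0) (h1 : psiM g = 1) :
    ∃ s : ℤ, (s = 1 ∨ s = -1) ∧ ∀ x, PRoot x → g • x = s • x := by
  obtain ⟨s, hs, he⟩ := sign_uniform hg h1
  refine ⟨s, hs, fun x hx => ?_⟩
  have hgx := hx.smul hg
  have hsig : ∀ j : Fin 8, dotL (res8 ((g • x : leechLattice) : GolayPt → ℤ)) (rootN j) =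
      s * dotL (res8 (x : GolayPt → ℤ)) (rootN j) := by
    intro j
    rw [← res8_bv j, ← dot_res8 hgx.1, ← dot_res8 hx.1]
    have h := co0_dot g x (bv j)
    rw [he j] at h
    have e2 : dotInt ((g • x : leechLattice) : GolayPt → ℤ) ((s • bv j : leechLattice) : GolayPt → ℤ) =
        s * dotInt ((g • x : leechLattice) : GolayPt → ℤ) (bv j : GolayPt → ℤ) := by
      simp only [dotInt, AddSubgroup.coe_zsmul, Pi.smul_apply, smul_eq_mul, Finset.mul_sum]
      exact Finset.sum_congr rfl fun p _ => by ring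
    rw [e2] at h
    show dotInt ((g • x : leechLattice) : GolayPt → ℤ) (bv j : GolayPt → ℤ) =
      s * dotInt (x : GolayPt → ℤ) (bv j : GolayPt → ℤ)
    rcases hs with rfl | rfl <;> linarith
  have hsig' : ∀ k ∈ List.range 8, dotL (res8 ((g • x : leechLattice) : GolayPt → ℤ)) (rootN k) =
      s * dotL (res8 (x : GolayPt → ℤ)) (rootN k) := fun k hk => hsig ⟨k, List.mem_range.1 hk⟩
  have hinj := List.inj_on_of_nodup_map sig8_nodup
  have hneg := List.all_eq_true.1 perp_neg _ hx.mem
  simp only [Bool.and_eq_true, List.contains_iff_mem, beq_iff_eq] at hneg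
  rcases hs with rfl | rfl
  · rw [one_smul]
    refine ext_res8 hgx.1 hx.1 (hinj hgx.mem hx.mem ?_)
    exact List.map_congr_left fun k hk => by rw [hsig' k hk, one_mul]
  · rw [neg_smul, one_smul]
    refine ext_res8 hgx.1 (supp_neg hx.1) ?_
    rw [show ((-x : leechLattice) : GolayPt → ℤ) = -(x : GolayPt → ℤ) from rfl, res8_neg]
    refine hinj hgx.mem hneg.1 (Eq.trans ?_ hneg.2.symm)
    rw [sig8, sig8, List.map_map]
    exact List.map_congr_left fun k hk => by rw [hsig' k hk]; simp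

/-- two roots orthogonal to the fixed vector summing to eight times a unit vector -/
def eightPair (i : ℕ) : List ℤ × List ℤ :=
  let j := if i == 2 then 3 else 2
  ((List.range 8).map fun k => if k == i || k == j then 4 else 0,
    (List.range 8).map fun k => if k == i then 4 else if k == j then -4 else 0)

theorem eightPair_ok : ∀ i ∈ [2, 3, 4, 5, 6, 7],
    (∀ a ∈ [(eightPair i).1, (eightPair i).2], leechB (vec (emb8 a)) = true ∧ a.length = 8 ∧
      sqNorm (vec (emb8 a)) = 32 ∧ dotL (res8 (vec (emb8 a))) u8 = 0) ∧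
    ∀ p : GolayPt, vec (emb8 (eightPair i).1) p + vec (emb8 (eightPair i).2) p =
      eight (pt (opos.getD i 0)) p := by
  decide +kernel

theorem proot_of {a : List ℤ} (h : leechB (vec (emb8 a)) = true ∧ a.length = 8 ∧
    sqNorm (vec (emb8 a)) = 32 ∧ dotL (res8 (vec (emb8 a))) u8 = 0) :
    PRoot ⟨vec (emb8 a), leechB_iff.1 h.1⟩ :=
  ⟨supp_emb8 a h.2.1, h.2.2.1, by
    rw [dot_res8 (supp_emb8 a h.2.1), leechU_facts.2]; exact h.2.2.2⟩

theorem eight_rest (hg : g ∈ C0) {s : ℤ} (hs : ∀ x, PRoot x → g • x = s • x) {i : ℕ}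
    (hi : i ∈ [2, 3, 4, 5, 6, 7]) :
    g • eightL (pt (opos.getD i 0)) = s • eightL (pt (opos.getD i 0)) := by
  obtain ⟨hab, hsum⟩ := eightPair_ok i hi
  have ha := proot_of (hab (eightPair i).1 (by simp))
  have hb := proot_of (hab (eightPair i).2 (by simp))
  have e : eightL (pt (opos.getD i 0)) = (⟨_, leechB_iff.1 (hab (eightPair i).1 (by simp)).1⟩ : leechLattice) +
      ⟨_, leechB_iff.1 (hab (eightPair i).2 (by simp)).1⟩ :=
    Subtype.ext (funext fun p => (hsum p).symm)
  rw [e, co0_add, hs _ ha, hs _ hb, smul_add]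

theorem w0_ok : leechB (vec (emb8 [4, -4, 0, 0, 0, 0, 0, 0])) = true ∧
    [(4 : ℤ), -4, 0, 0, 0, 0, 0, 0].length = 8 ∧
    sqNorm (vec (emb8 [4, -4, 0, 0, 0, 0, 0, 0])) = 32 ∧
    dotL (res8 (vec (emb8 [4, -4, 0, 0, 0, 0, 0, 0]))) u8 = 0 := by decide +kernel

theorem w0_sum : ∀ p : GolayPt,
    vec (emb8 u8) p + vec (emb8 [4, -4, 0, 0, 0, 0, 0, 0]) p = eight none p ∧
    vec (emb8 u8) p - vec (emb8 [4, -4, 0, 0, 0, 0, 0, 0]) p = eight (pt 0) p := by decide +kernel

theorem eight_first (hg : g ∈ C0) {s : ℤ} (hs : ∀ x, PRoot x → g • x = s • x) :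
    (s = 1 → g • eightL none = eightL none ∧ g • eightL (pt 0) = eightL (pt 0)) ∧
      (s = -1 → g • eightL none = eightL (pt 0) ∧ g • eightL (pt 0) = eightL none) := by
  set w : leechLattice := ⟨_, leechB_iff.1 w0_ok.1⟩
  have e1 : eightL none = leechU + w := Subtype.ext (funext fun p => by
    show eight none p = (leechU : GolayPt → ℤ) p + _
    rw [leechU_facts.1]; exact (w0_sum p).1.symm)
  have e2 : eightL (pt 0) = leechU - w := Subtype.ext (funext fun p => by
    show eight (pt 0) p = (leechU : GolayPt → ℤ) p - _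
    rw [leechU_facts.1]; exact (w0_sum p).2.symm)
  have hw : g • w = s • w := hs w (proot_of w0_ok)
  rw [e1, e2, co0_add, co0_sub, hw, (mem_C0.1 hg).2]
  constructor <;> rintro rfl <;> simp [sub_eq_add_neg]

theorem oct_cases : ∀ p ∈ oct, p = none ∨ p = pt 0 ∨
    ∃ i ∈ [2, 3, 4, 5, 6, 7], p = pt (opos.getD i 0) := by decide +kernel

theorem eight_inj (a b : GolayPt) : (eight a = eight b → a = b) ∧ eight a ≠ -eight b := by
  refine ⟨fun h => ?_, fun h => ?_⟩
  · by_contra hne
    have := congrFun h a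
    simp [eight, Pi.single_apply, hne] at this
  · have := congrFun h a
    simp [eight, Pi.single_apply] at this
    split at this <;> omega

theorem octad_mem : oct ∈ octads :=
  setOf24_mem_wordsOfWeight (M := m24BaseOctad) (n := 8) (by decide +kernel) (by decide +kernel)

theorem compMasks_complete : (List.range 4096).all (fun m =>
    !(codeMask m &&& m24BaseOctad == 0) || compMasks.contains (codeMask m)) = true := by
  decide +kernel

/-- an element trivial modulo two is trivial on the fixed lattice -/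
theorem exists_el (hg : g ∈ C0) (h1 : psiM g = 1) : ∃ v j, g = el v j := by
  obtain ⟨s, hs, hx⟩ := perp_sign hg h1
  obtain ⟨hp1, hm1⟩ := eight_first hg hx
  have hP : PreservesCross g := by
    refine preservesCross_of_mem (q := none) ?_
    rcases hs with e | e
    · rw [(hp1 e).1]; exact eightL_mem_stdCross _
    · rw [(hm1 e).1]; exact eightL_mem_stdCross _
  obtain ⟨τ, hτ, c, hc, rfl⟩ := eq_monoCo0 hP
  have hval : ∀ p q : GolayPt, monoCo0 τ hτ c hc • eightL p = eightL q → τ q = p ∧ q ∉ c := by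
    intro p q e
    have h := congrArg Subtype.val e
    rw [monoCo0_eight] at h
    change _ = eight q at h
    split at h
    · exact absurd h.symm (eight_inj _ _).2
    · have e' := (eight_inj _ _).1 h
      refine ⟨by rw [← e', perm_apply_inv], ?_⟩
      rwa [← e']
  rcases hs with rfl | rfl
  · have hfix : ∀ p ∈ oct, τ p = p ∧ p ∉ c := fun p hp => by
      refine hval p p ?_
      rcases oct_cases p hp with rfl | rfl | ⟨i, hi, rfl⟩
      · exact (hp1 rfl).1
      · exact (hp1 rfl).2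
      · rw [eight_rest hg hx hi, one_smul]
    obtain ⟨v, rfl⟩ := M24Centralizer.eq_T_of_fix hτ fun p hp => (hfix p hp).1
    obtain ⟨M, hM, rfl⟩ : c ∈ setOf24 '' {M | isCode M = true} := supports_eq ▸ hc
    obtain ⟨m, hm, rfl⟩ := exists_codeMask hM
    have hzero : codeMask m &&& m24BaseOctad = 0 := by
      refine Nat.eq_of_testBit_eq fun i => ?_
      rw [Nat.zero_testBit, Nat.testBit_and, Bool.and_eq_false_iff]
      by_cases hi : i < 24
      · by_contra h
        simp only [not_or, Bool.not_eq_false] at h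
        refine (hfix (pt i) ?_).2 ?_
        · show pt i ∈ setOf24 m24BaseOctad
          rw [mem_setOf24, idx_pt hi]; exact h.2
        · rw [mem_setOf24, idx_pt hi]; exact h.1
      · exact Or.inr (Nat.testBit_lt_two_pow
          ((by decide +kernel : m24BaseOctad < 2 ^ 24).trans_le (Nat.pow_le_pow_right (by norm_num) (by omega))))
    have h2 := List.all_eq_true.1 compMasks_complete m (List.mem_range.2 hm)
    rw [hzero] at h2
    simp only [beq_self_eq_true, Bool.not_true, Bool.false_or, List.contains_iff_mem] at h2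
    obtain ⟨j, hj, e⟩ := List.getElem_of_mem h2
    have hlen : compMasks.length = 32 := by decide
    refine ⟨v, ⟨j, hlen ▸ hj⟩, monoCo0_congr rfl ?_⟩
    rw [msk, List.getD_eq_getElem _ _ hj, e]
  · exfalso
    obtain ⟨e0, e1⟩ := hm1 rfl
    have h0 := (hval _ _ e0).1
    have h1 := (hval _ _ e1).1
    have hr : ∀ i ∈ [2, 3, 4, 5, 6, 7], τ (pt (opos.getD i 0)) = pt (opos.getD i 0) := by
      intro i hi
      have h := congrArg Subtype.val (eight_rest hg hx hi)
      rw [monoCo0_eight, neg_smul, one_smul] at h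
      change _ = -eight (pt (opos.getD i 0)) at h
      split at h
      · have e' := (eight_inj _ _).1 (neg_injective h)
        conv_lhs => rw [← e']
        exact perm_apply_inv _ _
      · exact absurd h (eight_inj _ _).2
    have hne : (none : GolayPt) ≠ pt 0 := by decide +kernel
    have hact : ∀ p ∈ oct, τ p = Equiv.swap none (pt 0) p := fun p hp => by
      rcases oct_cases p hp with rfl | rfl | ⟨i, hi, rfl⟩
      · rw [h1, Equiv.swap_apply_left]
      · rw [h0, Equiv.swap_apply_right]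
      · rw [hr i hi, Equiv.swap_apply_of_ne_of_ne] <;>
          exact (by decide +kernel : ∀ i ∈ [2, 3, 4, 5, 6, 7],
            pt (opos.getD i 0) ≠ none ∧ pt (opos.getD i 0) ≠ pt 0) i hi |>.elim (by tauto)
    have hn0 : (none : GolayPt) ∈ oct ∧ pt 0 ∈ oct := by decide +kernel
    have hstab : τ ∈ GolayOrbits.stabO oct := by
      refine ⟨hτ, ?_⟩
      show τ • oct = oct
      refine Finset.eq_of_subset_of_card_le (fun q hq => ?_) ?_
      · obtain ⟨p, hp, rfl⟩ := Finset.mem_smul_finset.1 hq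
        show τ p ∈ oct
        rw [hact p hp, Equiv.swap_apply_def]
        split_ifs
        exacts [hn0.2, hn0.1, hp]
      · rw [Finset.card_smul_finset]
    have hodd : GolayOrbits.restrictO oct ⟨τ, hstab⟩ =
        Equiv.swap ⟨none, hn0.1⟩ ⟨pt 0, hn0.2⟩ := by
      refine Equiv.ext fun p => Subtype.ext ?_
      show τ p.1 = _
      rw [hact p.1 p.2, Equiv.swap_apply_def, Equiv.swap_apply_def]
      simp only [Subtype.ext_iff]
      split_ifs <;> rfl
    have hA : GolayOrbits.restrictO oct ⟨τ, hstab⟩ ∈ alternatingGroup ↥oct := by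
      rw [← GolayOrbits.restrictO_range octad_mem]; exact ⟨_, rfl⟩
    rw [hodd, Equiv.Perm.mem_alternatingGroup, Equiv.Perm.sign_swap (by
      exact fun e => hne (congrArg Subtype.val e))] at hA
    exact absurd hA (by decide)

/-! ### The structure of the kernel -/

theorem el_inj {v w : Fin 16} {j l : Fin 32} (h : el v j = el w l) : v = w ∧ j = l := by
  have h2 := monoOf_injective (a₁ := (⟨T v, T_mem v⟩, ⟨_, setOf24_mem_supports (msk_ok j).1⟩))
    (a₂ := (⟨T w, T_mem w⟩, ⟨_, setOf24_mem_supports (msk_ok l).1⟩)) h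
  simp only [Prod.mk.injEq, Subtype.mk.injEq] at h2
  refine ⟨M24Centralizer.T_p0_inj (by rw [h2.1]), ?_⟩
  exact (by decide +kernel : ∀ a b : Fin 32, msk a = msk b → a = b) j l
    (setOf24_inj (isCode_lt (msk_ok j).1) (isCode_lt (msk_ok l).1) h2.2)

/-- bit `i` of the mask of a product -/
def prodBit (v : Fin 16) (j l : Fin 32) (i : ℕ) : Bool :=
  xor ((msk j).testBit i) ((msk l).testBit (app (tb v) i))

theorem mask_image (v : Fin 16) (j l : Fin 32) (p : GolayPt) :
    (p ∈ setOf24 (msk j) ∆ (setOf24 (msk l)).image ⇑(T v)⁻¹) ↔ prodBit v j l (idx p) = true := by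
  have h1 : p ∈ (setOf24 (msk l)).image ⇑(T v)⁻¹ ↔ (msk l).testBit (app (tb v) (idx p)) = true := by
    rw [← idx_T, Finset.mem_image]
    constructor
    · rintro ⟨q, hq, e⟩
      rw [← e, perm_apply_inv]; exact mem_setOf24.1 hq
    · intro h
      exact ⟨T v p, mem_setOf24.2 h, perm_inv_apply _ _⟩
  rw [Finset.mem_symmDiff, h1, mem_setOf24, prodBit]
  cases (msk j).testBit (idx p) <;> cases (msk l).testBit (app (tb v) (idx p)) <;> simp

theorem el_mul {v w : Fin 16} {j l n : Fin 32}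
    (h : ∀ i < 24, (msk n).testBit i = prodBit v j l i) : el v j * el w l = el (w ^^^ v) n := by
  rw [el, el, monoCo0_mul]
  refine monoCo0_congr (T_mul w v) (Finset.ext fun p => ?_)
  rw [mask_image, mem_setOf24, h _ (idx_lt p)]

theorem el_comm_bits {v w : Fin 16} {j l : Fin 32} (h : el v j * el w l = el w l * el v j) :
    ∀ i < 24, prodBit v j l i = prodBit w l j i := by
  intro i hi
  rw [el, el, monoCo0_mul, monoCo0_mul] at h
  have h2 := monoOf_injective (a₁ := (⟨_, mul_mem (T_mem w) (T_mem v)⟩, ⟨_, supports_symmDiff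
      (setOf24_mem_supports (msk_ok j).1) (setSystemAut_image_mem (inv_mem (T_mem v))
        (setOf24_mem_supports (msk_ok l).1))⟩))
    (a₂ := (⟨_, mul_mem (T_mem v) (T_mem w)⟩, ⟨_, supports_symmDiff
      (setOf24_mem_supports (msk_ok l).1) (setSystemAut_image_mem (inv_mem (T_mem w))
        (setOf24_mem_supports (msk_ok j).1))⟩)) h
  simp only [Prod.mk.injEq, Subtype.mk.injEq] at h2
  have h3 := Finset.ext_iff.1 h2.2 (pt i)
  rw [mask_image, mask_image, idx_pt hi] at h3
  exact Bool.eq_iff_iff.2 h3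

/-- the complementary label -/
def flipJ (j : Fin 32) : Fin 32 := ⟨31 - j.val, by omega⟩

theorem flip_bits : ∀ v : Fin 16, ∀ j : Fin 32, ∀ i < 24,
    (msk (flipJ j)).testBit i = prodBit v j 31 i ∧
      (msk (flipJ j)).testBit i = prodBit 0 31 j i := by
  decide +kernel

theorem el_mem_C0 (v : Fin 16) (j : Fin 32) : el v j ∈ C0 := by
  refine mem_C0.2 ⟨?_, el_fix v j supp_U⟩
  rw [t0, el_mul fun i hi => (flip_bits v j i hi).1, el_mul fun i hi => (flip_bits v j i hi).2]
  congr 1
  exact (by decide : ∀ a : Fin 16, 0 ^^^ a = a ^^^ 0) v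

/-- the kernel element in the centraliser -/
noncomputable def elC (x : Fin 16 × Fin 32) : ↥C0 := ⟨el x.1 x.2, el_mem_C0 _ _⟩

theorem mem_ker_psi {g : ↥C0} : g ∈ psi.ker ↔ ∃ x, elC x = g := by
  rw [MonoidHom.mem_ker]
  constructor
  · intro h
    obtain ⟨v, j, e⟩ := exists_el g.2 (congrArg Subtype.val h)
    exact ⟨(v, j), Subtype.ext e.symm⟩
  · rintro ⟨x, rfl⟩
    exact Subtype.ext (psiM_fix fun i => el_fix _ _ (proot_bv i).1)

theorem elC_injective : Function.Injective elC := fun a b h =>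
  Prod.ext (el_inj (congrArg Subtype.val h)).1 (el_inj (congrArg Subtype.val h)).2

theorem card_ker_psi : Nat.card psi.ker = 2 ^ 9 := by
  have e : (psi.ker : Set ↥C0) = Set.range elC := Set.ext fun g => mem_ker_psi
  show Nat.card (psi.ker : Set ↥C0) = _
  rw [e, Nat.card_range_of_injective elC_injective]
  simp

theorem square_bits : ∀ v : Fin 16, ∀ j : Fin 32,
    (∀ i < 24, (msk 0).testBit i = prodBit v j j i) ∨ ∀ i < 24, (msk 31).testBit i = prodBit v j j i := by
  decide +kernel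

theorem centre_bits : ∀ v : Fin 16, ∀ j : Fin 32,
    (∀ w ∈ [(1 : Fin 16), 2, 4, 8], ∀ i < 24, prodBit v j 0 i = prodBit w 0 j i) →
    (∀ l ∈ [(1 : Fin 32), 2, 4, 8, 16], ∀ i < 24, prodBit v j l i = prodBit 0 l j i) →
      v = 0 ∧ (j = 0 ∨ j = 31) := by
  decide +kernel

theorem el_zero_zero : el 0 0 = 1 := by
  refine co0_ext fun x => Subtype.ext (funext fun p => ?_)
  rw [el_apply, T_zero, show msk 0 = 0 by decide, one_smul]
  simp

theorem extraspecial_ker : IsExtraspecial 2 psi.ker := by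
  have : Finite ↥psi.ker := Nat.finite_of_card_ne_zero (by rw [card_ker_psi]; norm_num)
  have := co0_finite
  have hz : (elC (0, 31) : ↥C0) * elC (0, 31) = 1 := by
    refine Subtype.ext ?_
    show el 0 31 * el 0 31 = 1
    rw [el_mul (n := 0) (by decide +kernel), ← el_zero_zero]
    rfl
  have h1 : elC (0, 0) = 1 := Subtype.ext el_zero_zero
  have hne : (elC (0, 31) : ↥C0) ≠ 1 := fun e => by
    rw [← h1] at e
    exact absurd (elC_injective e) (by decide)
  refine FGS74.Cubic.isExtraspecial_of (IsPGroup.of_card card_ker_psi) (z := elC (0, 31))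
    (mem_ker_psi.2 ⟨_, rfl⟩) hz hne ?_ ?_ ?_ ?_
  · intro t _
    exact Subtype.ext (mem_C0.1 t.2).1.symm
  · intro x hx
    obtain ⟨⟨v, j⟩, rfl⟩ := mem_ker_psi.1 hx
    have hv : v ^^^ v = 0 := (by decide : ∀ a : Fin 16, a ^^^ a = 0) v
    rcases square_bits v j with h | h
    · left; rw [← h1]; exact Subtype.ext ((el_mul h).trans (by rw [hv]; rfl))
    · right; exact Subtype.ext ((el_mul h).trans (by rw [hv]; rfl))
  · intro x hx hall
    obtain ⟨⟨v, j⟩, rfl⟩ := mem_ker_psi.1 hx
    have hc : ∀ w l, el v j * el w l = el w l * el v j := fun w l =>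
      congrArg Subtype.val (hall (elC (w, l)) (mem_ker_psi.2 ⟨_, rfl⟩))
    obtain ⟨rfl, rfl | rfl⟩ := centre_bits v j (fun w _ => el_comm_bits (hc w 0))
      (fun l _ => el_comm_bits (hc 0 l))
    · exact Or.inl h1
    · exact Or.inr rfl
  · obtain ⟨v, l, i, hi, hne2⟩ : ∃ v : Fin 16, ∃ l : Fin 32, ∃ i : Fin 24, v ≠ 0 ∧
        prodBit v 0 l i ≠ prodBit 0 l 0 i := by decide +kernel
    refine ⟨elC (v, 0), mem_ker_psi.2 ⟨_, rfl⟩, elC (0, l), mem_ker_psi.2 ⟨_, rfl⟩, fun e => ?_⟩
    exact hne2 (el_comm_bits (congrArg Subtype.val e) i i.2)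

end CfsgLib.Co2Invol
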