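import Cfsg.Agent.Co2Invol.Surjective
import Cfsg.Agent.PLocal.Cores
import Cfsg.Agent.Forms4.SymplecticSimple
import Cfsg.Agent.Forms.SymplecticOrder
import Cfsg.Agent.LargeExtraspecial.Simplicity

/-!
The largest normal 2-subgroup of the centraliser and the quotient by it.
-/

set_option autoImplicit false

namespace CfsgLib.Co2Invol

open Cfsg CfsgLib.Mathieu CfsgLib.Leech InvolData
open Spor (leechU Co2)

theorem pCore_symplectic : pCore 2 (Matrix.symplecticGroup (Fin 3) (ZMod 2)) = ⊥ := by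
  have : Fact (Nat.Prime 2) := ⟨Nat.prime_two⟩
  set S := Matrix.symplecticGroup (Fin 3) (ZMod 2)
  have hz : Subgroup.center S = ⊥ := by
    rw [← Subgroup.card_eq_one, Forms4.card_center_Sp (by norm_num)]
    simp [ZMod.card]
  rcases Forms4.normal_eq_top_or_le_center (by norm_num)
    (Forms4.commutator_Sp_eq_top (Or.inl le_rfl)) (pCore 2 S) with h | h
  · exfalso
    have hp := PLocal.isPGroup_pCore 2 S
    rw [h] at hp
    obtain ⟨n, hn⟩ := hp.exists_card_eq
    rw [Subgroup.card_top, Forms.card_symplecticGroup] at hn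
    have h3 : 3 ∣ 2 ^ n := hn ▸ by simp [Fin.prod_univ_three, ZMod.card, Finset.prod_range_succ]
    have := Nat.Prime.dvd_of_dvd_pow Nat.prime_three h3
    omega
  · rw [hz] at h
    exact le_bot_iff.1 h

theorem pCore_C0 : pCore 2 ↥C0 = psi.ker := by
  have hk : IsPGroup 2 psi.ker := IsPGroup.of_card card_ker_psi
  refine le_antisymm (fun g hg => ?_) (PLocal.le_pCore hk)
  have h := PLocal.map_pCore_le_of_surjective (p := 2) psi_surjective (Subgroup.mem_map_of_mem psi hg)
  rwa [pCore_symplectic, Subgroup.mem_bot] at h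

/-- the involution in the stabiliser of the fixed vector -/
noncomputable def tCo2 : ↥Co2 := ⟨t0.1, t0.2, el_fix _ _ supp_U⟩

theorem orderOf_tCo2 : orderOf tCo2 = 2 := by
  have : Fact (Nat.Prime 2) := ⟨Nat.prime_two⟩
  refine orderOf_eq_prime ?_ ?_
  · have h : t0 * t0 = 1 := by
      rw [t0, el_mul (n := 0) (by decide +kernel), ← el_zero_zero]; rfl
    rw [pow_two]
    exact Subtype.ext (congrArg (fun z : Co0 => z.1) h :)
  · intro h
    have h2 : el 0 31 = el 0 0 := by
      rw [el_zero_zero]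
      exact Subtype.ext (congrArg (fun z : ↥Co2 => z.1) h :)
    exact absurd (el_inj h2).2 (by decide)

/-- the centraliser in the stabiliser, inside `Co0` -/
noncomputable def centralizerEquiv :
    ↥C0 ≃* ↥(Subgroup.centralizer ({tCo2} : Set ↥Co2)) where
  toFun g := ⟨⟨g.1.1, g.1.2, (mem_C0.1 g.2).2⟩, Subgroup.mem_centralizer_singleton_iff.2
    (Subtype.ext (congrArg Subtype.val (mem_C0.1 g.2).1 : _))⟩
  invFun g := ⟨⟨g.1.1, g.1.2.1⟩, mem_C0.2 ⟨Subtype.ext
    (congrArg Subtype.val (Subgroup.mem_centralizer_singleton_iff.1 g.2) : _), g.1.2.2⟩⟩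
  left_inv _ := rfl
  right_inv _ := rfl
  map_mul' _ _ := rfl

theorem co2_involution_centralizer : ∃ t : ↥Co2, orderOf t = 2 ∧
    IsExtraspecial 2 (pCore 2 ↥(Subgroup.centralizer ({t} : Set ↥Co2))) ∧
      Nat.card (pCore 2 ↥(Subgroup.centralizer ({t} : Set ↥Co2))) = 2 ^ 9 ∧
        Nonempty (↥(Subgroup.centralizer ({t} : Set ↥Co2)) ⧸
            pCore 2 ↥(Subgroup.centralizer ({t} : Set ↥Co2)) ≃*
          Matrix.symplecticGroup (Fin 3) (ZMod 2)) := by
  refine ⟨tCo2, orderOf_tCo2, ?_⟩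
  have e := PLocal.map_pCore_equiv (p := 2) centralizerEquiv
  let φ : ↥psi.ker ≃* ↥(pCore 2 ↥(Subgroup.centralizer ({tCo2} : Set ↥Co2))) :=
    (centralizerEquiv.subgroupMap psi.ker).trans (MulEquiv.subgroupCongr (by rw [← pCore_C0]; exact e))
  refine ⟨LargeExtraspecial.isExtraspecial_of_mulEquiv φ extraspecial_ker, ?_, ?_⟩
  · rw [← Nat.card_congr φ.toEquiv]; exact card_ker_psi
  · have : (pCore 2 ↥C0).Normal := by rw [pCore_C0]; infer_instance
    refine ⟨(QuotientGroup.congr (pCore 2 ↥C0) _ centralizerEquiv e).symm.trans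
      ((QuotientGroup.quotientMulEquivOfEq pCore_C0).trans
        (QuotientGroup.quotientKerEquivOfSurjective psi psi_surjective))⟩

end CfsgLib.Co2Invol
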