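import Cfsg.Agent.Co2Invol.Tables
import Cfsg.Prelude.Def_Spor_Conway

/-!
The involution, its centraliser in the stabiliser of the fixed minimal vector, and the homomorphism to
the symplectic group given by the action on the roots modulo two.
-/

set_option autoImplicit false

namespace CfsgLib.Co2Invol

open Cfsg CfsgLib.Mathieu CfsgLib.Leech InvolData
open M24Centralizer (oct tb T T_mem T_zero T_fix_oct idx_T)
open Spor (leechU)

attribute [local irreducible] roots8 perp8

/-- a code word disjoint from the octad -/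
def msk (j : Fin 32) : ℕ := compMasks.getD j.val 0

theorem msk_ok : ∀ j : Fin 32, isCode (msk j) = true ∧ ∀ p ∈ oct, (msk j).testBit (idx p) = false := by
  decide +kernel

/-- an element trivial on the vectors supported on the octad -/
noncomputable def el (v : Fin 16) (j : Fin 32) : Co0 :=
  monoCo0 (T v) (T_mem v) (setOf24 (msk j)) (setOf24_mem_supports (msk_ok j).1)

theorem el_apply (v : Fin 16) (j : Fin 32) (x : leechLattice) (p : GolayPt) :
    ((el v j • x : leechLattice) : GolayPt → ℤ) p =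
      if (msk j).testBit (idx p) then -(x : GolayPt → ℤ) (T v p) else (x : GolayPt → ℤ) (T v p) := by
  simp [el, monoCo0_smul, monoFun]

theorem el_moves (v : Fin 16) (j : Fin 32) (l : List ℤ) (hl : vec l ∈ leechLattice) :
    ((el v j • (⟨vec l, hl⟩ : leechLattice) : leechLattice) : GolayPt → ℤ) =
      vec (runMoves [.mono (tb v) (msk j)] l) := by
  funext p
  simp only [el_apply, runMoves, List.foldl_cons, List.foldl_nil, Mv.act, vec_map_range]
  simp only [vec, idx_T]

theorem T_supp {v : Fin 16} {p : GolayPt} (hp : p ∉ oct) : T v p ∉ oct := fun h =>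
  hp (by rw [show p = T v p from (T v).injective (T_fix_oct v h).symm] ; exact h)

theorem el_fix (v : Fin 16) (j : Fin 32) {x : leechLattice} (hx : Supp (x : GolayPt → ℤ)) :
    el v j • x = x := by
  apply Subtype.ext
  funext p
  rw [el_apply]
  by_cases hp : p ∈ oct
  · rw [(msk_ok j).2 p hp, T_fix_oct v hp]; rfl
  · rw [hx p hp, hx _ (T_supp hp), neg_zero, ite_self]

/-- the central involution: negation off the octad -/
noncomputable def t0 : Co0 := el 0 31

theorem t0_fix_iff (x : leechLattice) : t0 • x = x ↔ Supp (x : GolayPt → ℤ) := by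
  refine ⟨fun h p hp => ?_, el_fix _ _⟩
  have h1 := congrFun (congrArg Subtype.val h) p
  rw [t0, el_apply, T_zero] at h1
  have hb : ∀ q : GolayPt, q ∉ oct → (msk 31).testBit (idx q) = true := by decide +kernel
  rw [hb p hp] at h1
  simp only [if_true, Equiv.Perm.one_apply] at h1
  omega

theorem leechU_facts : (leechU : GolayPt → ℤ) = vec (emb8 u8) ∧ res8 (leechU : GolayPt → ℤ) = u8 := by
  have h : ∀ p : GolayPt, Spor.vecU p = vec (emb8 u8) p := by decide +kernel
  have h2 : res8 Spor.vecU = u8 := by decide +kernel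
  exact ⟨funext h, h2⟩

theorem supp_U : Supp (leechU : GolayPt → ℤ) := leechU_facts.1 ▸ supp_emb8 _ rfl

/-- the centraliser of the involution in the stabiliser of the fixed vector -/
noncomputable def C0 : Subgroup Co0 :=
  Subgroup.centralizer {t0} ⊓ MulAction.stabilizer Co0 leechU

theorem mem_C0 {g : Co0} : g ∈ C0 ↔ g * t0 = t0 * g ∧ g • leechU = leechU := by
  simp [C0, Subgroup.mem_centralizer_singleton_iff, eq_comm]

theorem C0_supp {g : Co0} (hg : g ∈ C0) {x : leechLattice} (hx : Supp (x : GolayPt → ℤ)) :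
    Supp ((g • x : leechLattice) : GolayPt → ℤ) := by
  rw [← t0_fix_iff] at hx ⊢
  rw [← mul_smul, ← (mem_C0.1 hg).1, mul_smul, hx]

/-- a root orthogonal to the fixed vector -/
def PRoot (x : leechLattice) : Prop :=
  Supp (x : GolayPt → ℤ) ∧ sqNorm (x : GolayPt → ℤ) = 32 ∧
    dotInt (x : GolayPt → ℤ) (leechU : GolayPt → ℤ) = 0

theorem PRoot.mem {x : leechLattice} (h : PRoot x) : res8 (x : GolayPt → ℤ) ∈ perp8 := by
  unfold perp8
  refine List.mem_filter.2 ⟨res8_mem_roots8 x.2 h.1 h.2.1, ?_⟩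
  rw [beq_iff_eq, ← leechU_facts.2, ← dot_res8 h.1]
  exact h.2.2

theorem PRoot.smul {g : Co0} (hg : g ∈ C0) {x : leechLattice} (h : PRoot x) : PRoot (g • x) :=
  ⟨C0_supp hg h.1, (co0_norm g x).trans h.2.1, by
    conv_lhs => rw [← (mem_C0.1 hg).2]
    rw [co0_dot]
    exact h.2.2⟩

theorem rootB_mem (j : Fin 8) : (rootN j).length = 8 ∧ roots8.contains (rootN j) = true ∧
    vec (emb8 (rootN j)) ∈ leechLattice ∧ dotL (rootN j) u8 = 0 := by
  have h := List.all_eq_true.1 rootB_ok (rootN j) (by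
    rw [rootN, List.getD_eq_getElem _ _ (by simp [rootB])]
    exact List.getElem_mem _)
  simp only [Bool.and_eq_true, beq_iff_eq] at h
  exact ⟨h.1.1.1, h.1.1.2, leechB_iff.1 h.1.2, h.2⟩

/-- a listed root -/
def bv (j : Fin 8) : leechLattice := ⟨vec (emb8 (rootN j)), (rootB_mem j).2.2.1⟩

theorem res8_bv : ∀ j : Fin 8, res8 (vec (emb8 (rootN j))) = rootN j := by decide +kernel

theorem proot_bv (j : Fin 8) : PRoot (bv j) := by
  have hs : Supp (bv j : GolayPt → ℤ) := supp_emb8 _ (rootB_mem j).1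
  refine ⟨hs, (by decide +kernel : ∀ i : Fin 8, sqNorm (vec (emb8 (rootN i))) = 32) j, ?_⟩
  rw [dot_res8 hs, leechU_facts.2]
  show dotL (res8 (vec (emb8 (rootN j)))) u8 = 0
  rw [res8_bv]
  exact (rootB_mem j).2.2.2

/-- index of the hyperbolic basis -/
def ix : Fin 3 ⊕ Fin 3 → Fin 8
  | .inl i => ⟨i.val, by omega⟩
  | .inr i => ⟨i.val + 3, by omega⟩

theorem ix_swap : ∀ k, (ix (Sum.swap k)).val = pr (ix k).val := by decide

theorem sum_ix (f : ℕ → ℤ) : ∑ k, f (ix k).val = ((List.range 6).map f).sum := by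
  simp [Fintype.sum_sum_type, Fin.sum_univ_three, ix, List.range_succ]
  ring

/-- the inner product scaled and reduced modulo two -/
def dot2 (x y : leechLattice) : ZMod 2 :=
  ((dotInt (x : GolayPt → ℤ) (y : GolayPt → ℤ) / 16 : ℤ) : ZMod 2)

theorem dot2_smul (g : Co0) (x y : leechLattice) : dot2 (g • x) (g • y) = dot2 x y := by
  rw [dot2, co0_dot]; rfl

theorem dot2_comm (x y : leechLattice) : dot2 x y = dot2 y x := by
  rw [dot2, dot2, show dotInt (x : GolayPt → ℤ) (y : GolayPt → ℤ) = dotInt (y : GolayPt → ℤ) x from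
    Finset.sum_congr rfl fun _ _ => mul_comm _ _]

theorem dot2_eq {x : leechLattice} (hx : PRoot x) (y : leechLattice) :
    dot2 x y = ((dotL (res8 (x : GolayPt → ℤ)) (res8 (y : GolayPt → ℤ)) / 16 : ℤ) : ZMod 2) := by
  rw [dot2, dot_res8 hx.1]

/-- the coordinates of a root modulo two -/
def cf (x : leechLattice) (k : Fin 3 ⊕ Fin 3) : ZMod 2 := dot2 x (bv (ix (Sum.swap k)))

theorem cast_two_eq {a b : ℤ} (h : (a - b) % 2 = 0) : (a : ZMod 2) = (b : ZMod 2) :=
  ((ZMod.intCast_eq_intCast_iff_dvd_sub b a 2).2 (Int.dvd_of_emod_eq_zero h)).symm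

theorem dot2_expand {x r : leechLattice} (hx : PRoot x) (hr : PRoot r) :
    dot2 x r = ∑ k, dot2 (bv (ix k)) r * cf x k := by
  have h := List.all_eq_true.1 (List.all_eq_true.1 perp_bilinear _ hx.mem) _ hr.mem
  rw [beq_iff_eq] at h
  rw [dot2_eq hx, cast_two_eq h, ← sum_ix, Int.cast_sum]
  refine Finset.sum_congr rfl fun k _ => ?_
  rw [cf, dot2_eq (proot_bv _), dot2_eq hx, Int.cast_mul]
  simp only [bv, res8_bv]
  rw [ix_swap]

/-- the matrix of an element -/
def psiM (g : Co0) : Matrix (Fin 3 ⊕ Fin 3) (Fin 3 ⊕ Fin 3) (ZMod 2) :=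
  Matrix.of fun k j => cf (g • bv (ix j)) k

theorem psiM_mul {g h : Co0} (hg : g ∈ C0) (hh : h ∈ C0) : psiM (h * g) = psiM h * psiM g := by
  ext k j
  rw [Matrix.mul_apply]
  show cf ((h * g) • bv (ix j)) k = ∑ i, cf (h • bv (ix i)) k * cf (g • bv (ix j)) i
  have hd : ∀ x, cf (h • x) k = dot2 x (h⁻¹ • bv (ix (Sum.swap k))) := fun x => by
    rw [cf, ← dot2_smul h⁻¹, inv_smul_smul]
  rw [mul_smul, hd, dot2_expand ((proot_bv _).smul hg) ((proot_bv _).smul (inv_mem hh))]
  simp only [hd]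

theorem J_mul_apply (A : Matrix (Fin 3 ⊕ Fin 3) (Fin 3 ⊕ Fin 3) (ZMod 2)) (k m : Fin 3 ⊕ Fin 3) :
    (Matrix.J (Fin 3) (ZMod 2) * A) k m = A (Sum.swap k) m := by
  have hJ : ∀ a b : Fin 3 ⊕ Fin 3,
      Matrix.of.symm (Matrix.J (Fin 3) (ZMod 2)) a b = if b = Sum.swap a then 1 else 0 := by decide
  simp only [Matrix.of_symm_apply] at hJ
  simp [Matrix.mul_apply, hJ]

theorem dot2_basis : ∀ i j : Fin 3 ⊕ Fin 3,
    ((dotL (rootN (ix i).val) (rootN (ix j).val) / 16 : ℤ) : ZMod 2) =
      Matrix.of.symm (Matrix.J (Fin 3) (ZMod 2)) i j := by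
  decide +kernel

theorem psiM_mem {g : Co0} (hg : g ∈ C0) : psiM g ∈ Matrix.symplecticGroup (Fin 3) (ZMod 2) := by
  rw [SymplecticGroup.mem_iff']
  ext j m
  rw [Matrix.mul_assoc, Matrix.mul_apply]
  simp only [J_mul_apply, Matrix.transpose_apply, psiM, Matrix.of_apply]
  have e := dot2_eq (proot_bv (ix j)) (bv (ix m))
  simp only [bv, res8_bv, dot2_basis, Matrix.of_symm_apply] at e
  rw [← e]
  show _ = dot2 (bv (ix j)) (bv (ix m))
  rw [← dot2_smul g, dot2_expand ((proot_bv _).smul hg) ((proot_bv _).smul hg)]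
  refine Finset.sum_congr rfl fun k _ => ?_
  simp only [cf, Sum.swap_swap, dot2_comm (g • bv (ix m))]
  rw [mul_comm]

/-- the representation modulo two -/
noncomputable def psi : ↥C0 →* Matrix.symplecticGroup (Fin 3) (ZMod 2) :=
  MonoidHom.mk' (fun g => ⟨psiM g, psiM_mem g.2⟩) fun h g => Subtype.ext (psiM_mul g.2 h.2)

theorem psi_val (g : ↥C0) :
    (psi g : Matrix (Fin 3 ⊕ Fin 3) (Fin 3 ⊕ Fin 3) (ZMod 2)) = psiM g := rfl

end CfsgLib.Co2Invol
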