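import Cfsg.Agent.Co2Invol.Data
import Cfsg.Agent.Leech.Tree

/-!
The minimal vectors of the lattice supported on an octad: the list of 240 roots and the tables read
off it.
-/

set_option autoImplicit false
set_option maxRecDepth 100000

namespace CfsgLib.Co2Invol

open Cfsg CfsgLib.Mathieu CfsgLib.Leech InvolData
open M24Centralizer (oct)

/-- all lists of a length with entries in a given list -/
def cand (vals : List ℤ) : ℕ → List (List ℤ)
  | 0 => [[]]
  | n + 1 => vals.flatMap fun a => (cand vals n).map (a :: ·)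

theorem mem_cand {vals : List ℤ} : ∀ {l : List ℤ}, (∀ a ∈ l, a ∈ vals) → l ∈ cand vals l.length
  | [], _ => by simp [cand]
  | a :: l, h => by
    simp only [List.length_cons, cand, List.mem_flatMap, List.mem_map]
    exact ⟨a, h a (by simp), l, mem_cand fun b hb => h b (by simp [hb]), rfl⟩

/-- the roots in coordinates of the octad -/
def roots8 : List (List ℤ) :=
  (((cand [-1, 0, 1] 8).filter fun l => (l.map fun a => a * a).sum == 2).map fun l => l.map (4 * ·)) ++
    (((cand [-1, 1] 8).filter fun l => l.sum % 4 == 0).map fun l => l.map (2 * ·))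

/-- the fixed vector in coordinates of the octad -/
def u8 : List ℤ := [4, 4, 0, 0, 0, 0, 0, 0]

/-- the roots orthogonal to the fixed vector -/
def perp8 : List (List ℤ) := roots8.filter fun x => dotL x u8 == 0

/-- the coordinates on the octad -/
def res8 (x : GolayPt → ℤ) : List ℤ := opos.map fun i => x (pt i)

/-- the coordinates of a supported vector -/
def emb8 (r : List ℤ) : List ℤ := (List.range 24).map fun i => r.getD (opos.idxOf i) 0

/-- supported on the octad -/
def Supp (x : GolayPt → ℤ) : Prop := ∀ p, p ∉ oct → x p = 0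

theorem opos_spec : ∀ p : GolayPt, p ∈ oct ↔ idx p ∈ opos := by decide +kernel

theorem pt_mem_oct : ∀ i ∈ opos, pt i ∈ oct := fun i hi =>
  (opos_spec _).2 (by rw [idx_pt ((by decide : ∀ j ∈ opos, j < 24) i hi)]; exact hi)

theorem Supp.eq_vec {x : GolayPt → ℤ} (h : Supp x) : x = vec (emb8 (res8 x)) := by
  funext p
  rw [emb8, vec_map_range]
  by_cases hp : idx p ∈ opos
  · have hlt := List.idxOf_lt_length_iff.2 hp
    rw [res8, List.getD_eq_getElem _ _ (by rw [List.length_map]; exact hlt), List.getElem_map,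
      List.getElem_idxOf, pt_idx]
  · rw [h p (fun h' => hp ((opos_spec p).1 h')), List.getD_eq_default]
    rw [res8, List.length_map, List.idxOf_eq_length_iff.2 hp]

theorem supp_emb8 (r : List ℤ) (hr : r.length = 8) : Supp (vec (emb8 r)) := fun p hp => by
  rw [emb8, vec_map_range, List.getD_eq_default]
  rw [List.idxOf_eq_length_iff.2 (fun h => hp ((opos_spec p).2 h)), hr]
  rfl

theorem Supp.sum_eq {f : GolayPt → ℤ} (h : Supp f) : ∑ p, f p = (opos.map fun i => f (pt i)).sum := by
  have hinj : Set.InjOn pt (opos.toFinset : Set ℕ) := fun a ha b hb e => by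
    simp only [List.coe_toFinset] at ha hb
    have hlt : ∀ j ∈ opos, j < 24 := by decide
    rw [← idx_pt (hlt a ha), ← idx_pt (hlt b hb), e]
  rw [← List.sum_toFinset _ (by decide : opos.Nodup), ← Finset.sum_image hinj]
  refine (Finset.sum_subset (Finset.subset_univ _) fun p _ hp => h p fun ho => hp ?_).symm
  exact Finset.mem_image.2 ⟨idx p, List.mem_toFinset.2 ((opos_spec p).1 ho), pt_idx p⟩

theorem dot_res8 {x : GolayPt → ℤ} (h : Supp x) (y : GolayPt → ℤ) :
    dotInt x y = dotL (res8 x) (res8 y) := by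
  show ∑ p, x p * y p = _
  rw [Supp.sum_eq (fun p hp => by rw [h p hp, zero_mul])]
  simp [res8, opos, dotL]

theorem sq_le_two {a : ℤ} (h : a ^ 2 ≤ 2) : a = -1 ∨ a = 0 ∨ a = 1 := by
  have : -1 ≤ a := by nlinarith
  have : a ≤ 1 := by nlinarith
  omega

/-- classification of the roots -/
theorem res8_mem_roots8 {x : GolayPt → ℤ} (hm : x ∈ leechLattice) (hs : Supp x)
    (hn : sqNorm x = 32) : res8 x ∈ roots8 := by
  obtain ⟨m, a, ha, hsum, hw⟩ := mem_leech.mp hm
  have hq : (pt 4 : GolayPt) ∉ oct := by decide +kernel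
  have hm2 : m = 2 * (-a (pt 4)) := by
    have := ha (pt 4)
    rw [hs _ hq] at this
    omega
  -- halve the vector
  set y : GolayPt → ℤ := fun p => a p - a (pt 4) with hy
  have hxy : ∀ p, x p = 2 * y p := fun p => by rw [ha p, hm2, hy]; ring
  have hys : Supp y := fun p hp => by have := hxy p; rw [hs p hp] at this; omega
  have hyw : res2 y ∈ golayCode := by
    have e : res2 y = res2 a + (a (pt 4) : ZMod 2) • (1 : GolayPt → ZMod 2) := by
      ext i; simp [res2, hy, sub_eq_add_neg, ZModModule.neg_eq_self]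
    rw [e]; exact add_mem hw (Submodule.smul_mem _ _ one_mem_golayCode)
  have h8 : (opos.map fun i => y (pt i) ^ 2).sum = 8 := by
    have e : sqNorm x = 4 * ∑ p, y p ^ 2 := by
      simp only [sqNorm, hxy, mul_pow, Finset.mul_sum]; norm_num
    have e2 := Supp.sum_eq (f := fun p => y p ^ 2) fun p hp => by simp [hys p hp]
    rw [← e2]
    omega
  have hpar : (∀ p ∈ oct, (2 : ℤ) ∣ y p) ∨ ∀ p ∈ oct, ¬ (2 : ℤ) ∣ y p := by
    have key : ∀ p, p ∈ support₂ (res2 y) ↔ ¬ (2 : ℤ) ∣ y p := fun p => by
      simp only [support₂, res2, Finset.mem_filter, Finset.mem_univ, true_and, ne_eq,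
        ZMod.intCast_zmod_eq_zero_iff_dvd]
      norm_num
    have hsub : support₂ (res2 y) ⊆ oct := fun p hp => by
      by_contra h
      exact (key p).1 hp (by rw [hys p h]; exact dvd_zero 2)
    have hc : (oct : Finset GolayPt).card = 8 := by decide +kernel
    rcases supports_card (mem_golayCode_iff_support.mp hyw) with e | e | e | e | e <;>
      have hle := Finset.card_le_card hsub
    · exact Or.inl fun p _ => by
        by_contra h
        have := (key p).2 h
        rw [Finset.card_eq_zero.1 e] at this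
        exact absurd this (Finset.notMem_empty p)
    · exact Or.inr fun p hp => (key p).1 (by
        rw [Finset.eq_of_subset_of_card_le hsub (by omega)]; exact hp)
    all_goals omega
  rcases hpar with h | h
  · -- all coordinates divisible by four
    have hz : ∀ p ∈ oct, ∃ z, y p = 2 * z := fun p hp => h p hp
    have hz' : ∀ i ∈ opos, ∃ z, y (pt i) = 2 * z := fun i hi => hz _ (pt_mem_oct i hi)
    simp only [opos, List.mem_cons, List.not_mem_nil, or_false, forall_eq_or_imp, forall_eq] at hz'
    obtain ⟨⟨z0, e0⟩, ⟨z1, e1⟩, ⟨z2, e2⟩, ⟨z3, e3⟩, ⟨z4, e4⟩, ⟨z5, e5⟩, ⟨z6, e6⟩, ⟨z7, e7⟩⟩ := hz'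
    have hsq : z0 ^ 2 + z1 ^ 2 + z2 ^ 2 + z3 ^ 2 + z4 ^ 2 + z5 ^ 2 + z6 ^ 2 + z7 ^ 2 = 2 := by
      simp only [opos, List.map_cons, List.map_nil, List.sum_cons, List.sum_nil, e0, e1, e2, e3, e4,
        e5, e6, e7] at h8
      linarith [h8]
    refine List.mem_append_left _ (List.mem_map.2 ⟨[z0, z1, z2, z3, z4, z5, z6, z7],
      List.mem_filter.2 ⟨mem_cand (vals := [-1, 0, 1]) ?_, ?_⟩, ?_⟩)
    · intro b hb
      have hb' : b ^ 2 ≤ 2 := by
        simp only [List.mem_cons, List.not_mem_nil, or_false] at hb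
        rcases hb with hb | hb | hb | hb | hb | hb | hb | hb <;> rw [hb] <;>
          linarith [sq_nonneg z0, sq_nonneg z1, sq_nonneg z2, sq_nonneg z3, sq_nonneg z4,
            sq_nonneg z5, sq_nonneg z6, sq_nonneg z7]
      simpa using sq_le_two hb'
    · simp only [List.map_cons, List.map_nil, List.sum_cons, List.sum_nil, beq_iff_eq]
      linarith [hsq]
    · simp only [res8, opos, List.map_cons, List.map_nil, hxy, e0, e1, e2, e3, e4, e5, e6, e7]
      simp [← mul_assoc]
  · -- all coordinates twice odd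
    have hodd : ∀ i ∈ opos, ¬ (2 : ℤ) ∣ y (pt i) := fun i hi => h _ (pt_mem_oct i hi)
    have hone : ∀ i ∈ opos, 1 ≤ y (pt i) ^ 2 := fun i hi => by
      have hne : y (pt i) ≠ 0 := fun e => hodd i hi (by rw [e]; exact dvd_zero 2)
      have := pow_ne_zero 2 hne
      have := sq_nonneg (y (pt i))
      omega
    have hsum4 : ((opos.map fun i => y (pt i)).sum) % 4 = 0 := by
      have e : ∑ p, x p = 2 * (opos.map fun i => y (pt i)).sum := by
        rw [← Supp.sum_eq hys, Finset.mul_sum]; exact Finset.sum_congr rfl fun p _ => hxy p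
      rw [e, hm2] at hsum
      unfold Int.ModEq at hsum
      omega
    simp only [opos, List.mem_cons, List.not_mem_nil, or_false, forall_eq_or_imp, forall_eq] at hone
    simp only [opos, List.map_cons, List.map_nil, List.sum_cons, List.sum_nil] at h8 hsum4
    refine List.mem_append_right _ (List.mem_map.2 ⟨opos.map fun i => y (pt i),
      List.mem_filter.2 ⟨mem_cand (vals := [-1, 1]) ?_, ?_⟩, ?_⟩)
    · intro b hb
      have hb' : b ^ 2 = 1 := by
        simp only [opos, List.map_cons, List.map_nil, List.mem_cons, List.not_mem_nil, or_false] at hb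
        obtain ⟨g0, g1, g2, g3, g4, g5, g6, g7⟩ := hone
        rcases hb with rfl | rfl | rfl | rfl | rfl | rfl | rfl | rfl <;> linarith
      simpa [eq_comm, or_comm] using sq_eq_one_iff.1 hb'
    · simpa [opos] using hsum4
    · simp [res8, opos, hxy]

end CfsgLib.Co2Invol
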