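import Cfsg.Agent.Co2Invol.Kernel
import Cfsg.Agent.Forms.Symplectic

/-!
The representation modulo two is onto: its image contains a transvection and a set of elements
transitive on the 63 centres of transvections.
-/

set_option autoImplicit false
set_option maxRecDepth 100000

namespace CfsgLib.Co2Invol

open Cfsg CfsgLib.Mathieu CfsgLib.Leech InvolData
open M24Centralizer (oct tb)
open Spor (leechU)
open scoped Matrix

attribute [local irreducible] roots8 perp8

/-- the vector with a given bit pattern -/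
def bitsVec (n : ℕ) : Fin 3 ⊕ Fin 3 → ZMod 2 := fun k => if n.testBit (ix k).val then 1 else 0

/-- the matrix of a generator -/
def genMat (i : Fin 5) : Matrix (Fin 3 ⊕ Fin 3) (Fin 3 ⊕ Fin 3) (ZMod 2) :=
  Matrix.of fun k j =>
    if ((genRows.getD i.val []).getD (ix k).val 0).testBit (ix j).val then 1 else 0

theorem invGens_ok : ∀ i : Fin 5, (invGens.getD i.val []).all Mv.ok = true ∧
    runMoves (invGens.getD i.val []) (emb8 u8) = emb8 u8 ∧
    ((List.range 24).all fun j =>
      runMoves ([.mono (tb 0) (msk 31)] ++ invGens.getD i.val [])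
          ((List.range 24).map fun a => if a = j then (8 : ℤ) else 0) ==
        runMoves (invGens.getD i.val [] ++ [.mono (tb 0) (msk 31)])
          ((List.range 24).map fun a => if a = j then (8 : ℤ) else 0)) = true := by
  decide +kernel

theorem invGens_mat : ∀ i : Fin 5, ∀ k j : Fin 3 ⊕ Fin 3,
    ((dotL (res8 (vec (runMoves (invGens.getD i.val []) (emb8 (rootN (ix j).val)))))
      (rootN (ix (Sum.swap k)).val) / 16 : ℤ) : ZMod 2) =
      if ((genRows.getD i.val []).getD (ix k).val 0).testBit (ix j).val then 1 else 0 := by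
  decide +kernel

/-- the action of a product of two elements given by moves -/
theorem mul_moves {g h : Co0} {a b : List Mv}
    (hg : ∀ (l : List ℤ) (hl : vec l ∈ leechLattice),
      ((g • (⟨vec l, hl⟩ : leechLattice) : leechLattice) : GolayPt → ℤ) = vec (runMoves a l))
    (hh : ∀ (l : List ℤ) (hl : vec l ∈ leechLattice),
      ((h • (⟨vec l, hl⟩ : leechLattice) : leechLattice) : GolayPt → ℤ) = vec (runMoves b l))
    (l : List ℤ) (hl : vec l ∈ leechLattice) :
    (((h * g) • (⟨vec l, hl⟩ : leechLattice) : leechLattice) : GolayPt → ℤ) =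
      vec (runMoves (a ++ b) l) := by
  have hm : vec (runMoves a l) ∈ leechLattice := by
    rw [← hg l hl]; exact (g • (⟨vec l, hl⟩ : leechLattice)).2
  rw [mul_smul, show g • (⟨vec l, hl⟩ : leechLattice) = ⟨_, hm⟩ from Subtype.ext (hg l hl), hh _ hm,
    runMoves, runMoves, runMoves, List.foldl_append]

theorem genMat_mem (i : Fin 5) : ∃ g : ↥C0, psiM g = genMat i := by
  obtain ⟨hok, hu, hc⟩ := invGens_ok i
  obtain ⟨g, -, hg⟩ := runMoves_spec _ hok
  have hgC : g ∈ C0 := by
    refine mem_C0.2 ⟨?_, ?_⟩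
    · exact co0_eq_of_moves (mul_moves (el_moves 0 31) hg) (mul_moves hg (el_moves 0 31)) hc
    · have hm : vec (emb8 u8) ∈ leechLattice := leechU_facts.1 ▸ leechU.2
      rw [show leechU = ⟨_, hm⟩ from Subtype.ext leechU_facts.1]
      exact Subtype.ext (by rw [hg _ hm, hu])
  refine ⟨⟨g, hgC⟩, ?_⟩
  ext k j
  rw [psiM, Matrix.of_apply, genMat, Matrix.of_apply, cf,
    dot2_eq ((proot_bv _).smul hgC)]
  show ((dotL (res8 ((g • bv (ix j) : leechLattice) : GolayPt → ℤ))
    (res8 (vec (emb8 (rootN (ix (Sum.swap k)).val)))) / 16 : ℤ) : ZMod 2) = _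
  rw [res8_bv, bv, hg, invGens_mat]

theorem genMat_range (i : Fin 5) : ∃ A ∈ psi.range, A.1 = genMat i := by
  obtain ⟨g, hg⟩ := genMat_mem i
  exact ⟨psi g, ⟨g, rfl⟩, hg⟩

theorem root_transv : ∀ k j : Fin 3 ⊕ Fin 3, Matrix.of.symm (genMat 4) k j =
    Matrix.of.symm (Cfsg.sympTransvection 3 (bitsVec rootVec) (1 : ZMod 2)) k j := by
  decide +kernel

theorem step_mulVec : ∀ s ∈ orbitSteps, ∀ k : Fin 3 ⊕ Fin 3,
    bitsVec s.1 k = ∑ j, Matrix.of.symm (genMat ⟨s.2.1 % 5, Nat.mod_lt _ (by norm_num)⟩) k j *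
      bitsVec s.2.2 j := by
  decide +kernel

/-- parents come first -/
def orderedB : List ℕ → List (ℕ × ℕ × ℕ) → Bool
  | _, [] => true
  | known, s :: l => known.contains s.2.2 && orderedB (s.1 :: known) l

theorem orbit_ordered : orderedB [rootVec] orbitSteps = true ∧
    ∀ v : Fin 3 ⊕ Fin 3 → ZMod 2,
      v = 0 ∨ ∃ n ∈ rootVec :: orbitSteps.map Prod.fst, v = bitsVec n := by
  decide +kernel

theorem conj_transv {A : Matrix.symplecticGroup (Fin 3) (ZMod 2)} {v w : Fin 3 ⊕ Fin 3 → ZMod 2}
    (h : w = A.1 *ᵥ v) : A * Forms.spTransv v 1 = Forms.spTransv w 1 * A := by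
  refine Subtype.ext (Matrix.ext_iff_mulVec.2 fun x => ?_)
  simp only [Submonoid.coe_mul, ← Matrix.mulVec_mulVec, Forms.spTransv,
    Forms.sympTransvection_mulVec, Matrix.mulVec_add, Matrix.mulVec_smul, h, Forms.sympForm_map]

theorem transv_of_ordered : ∀ (l : List (ℕ × ℕ × ℕ)) (known : List ℕ),
    (∀ s ∈ l, s ∈ orbitSteps) → orderedB known l = true →
      (∀ n ∈ known, Forms.spTransv (bitsVec n) 1 ∈ psi.range) →
      ∀ n ∈ l.map Prod.fst, Forms.spTransv (bitsVec n) 1 ∈ psi.range
  | [], _, _, _, _, n, hn => absurd hn (List.not_mem_nil)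
  | s :: l, known, hsub, hord, hk, n, hn => by
    rw [orderedB, Bool.and_eq_true, List.contains_iff_mem] at hord
    obtain ⟨A, hA, hA'⟩ := genMat_range ⟨s.2.1 % 5, Nat.mod_lt _ (by norm_num)⟩
    have h : bitsVec s.1 = A.1 *ᵥ bitsVec s.2.2 := funext fun k => by
      rw [step_mulVec s (hsub s List.mem_cons_self) k, hA']; rfl
    have hc : Forms.spTransv (bitsVec s.1) 1 ∈ psi.range := by
      rw [eq_mul_inv_of_mul_eq (conj_transv h).symm]
      exact mul_mem (mul_mem hA (hk _ hord.1)) (inv_mem hA)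
    rcases List.mem_cons.1 hn with rfl | hn
    · exact hc
    · refine transv_of_ordered l (s.1 :: known) (fun t ht => hsub t (List.mem_cons_of_mem _ ht))
        hord.2 (fun m hm => ?_) n hn
      rcases List.mem_cons.1 hm with rfl | hm
      exacts [hc, hk m hm]

theorem psi_surjective : Function.Surjective psi := by
  obtain ⟨A, hA, hA'⟩ := genMat_range 4
  have hroot : Forms.spTransv (bitsVec rootVec) 1 ∈ psi.range := by
    rwa [show Forms.spTransv (bitsVec rootVec) (1 : ZMod 2) = A from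
      Subtype.ext (hA'.trans (Matrix.ext root_transv)).symm]
  have hall : ∀ v, v ≠ 0 → Forms.spTransv v (1 : ZMod 2) ∈ psi.range := by
    intro v hv
    obtain ⟨n, hn, rfl⟩ := (orbit_ordered.2 v).resolve_left hv
    rcases List.mem_cons.1 hn with rfl | hn
    · exact hroot
    · exact transv_of_ordered orbitSteps [rootVec] (fun _ h => h) orbit_ordered.1
        (fun m hm => by rw [List.mem_singleton.1 hm]; exact hroot) n hn
  rw [← MonoidHom.range_eq_top, eq_top_iff, ← Forms.transvGroup_eq_top, Forms.transvGroup,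
    Subgroup.closure_le]
  rintro _ ⟨w, -, c, rfl⟩
  have h1 : Forms.spTransv w (0 : ZMod 2) = 1 :=
    Subtype.ext (by simp [Forms.spTransv, Cfsg.sympTransvection])
  rcases (by decide : ∀ z : ZMod 2, z = 0 ∨ z = 1) c with rfl | rfl
  · rw [h1]; exact one_mem _
  by_cases hw : w = 0
  · rw [hw, show Forms.spTransv (0 : Fin 3 ⊕ Fin 3 → ZMod 2) (1 : ZMod 2) = 1 from
      Subtype.ext (by simp [Forms.spTransv, Cfsg.sympTransvection])]
    exact one_mem _
  exact hall w hw

end CfsgLib.Co2Invol
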