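import Cfsg.Agent.Co2Invol.Roots

/-!
Kernel checked tables on the 240 roots.
-/

set_option autoImplicit false
set_option maxRecDepth 100000

namespace CfsgLib.Co2Invol

open Cfsg CfsgLib.Mathieu CfsgLib.Leech InvolData

/-! ### Tables -/

theorem rootB_ok : rootB.all (fun r => r.length == 8 && roots8.contains r &&
    leechB (vec (emb8 r)) && dotL r u8 == 0) = true := by decide +kernel

/-- partner of a basis index -/
def pr (i : ℕ) : ℕ := (i + 3) % 6

/-- the `i`th listed root -/
def rootN (i : ℕ) : List ℤ := rootB.getD i []

/-- bilinearity of the inner product modulo two on the roots orthogonal to the fixed vector -/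
theorem perp_bilinear : perp8.all (fun x => perp8.all fun r =>
    (dotL x r / 16 - ((List.range 6).map fun i =>
      (dotL (rootN i) r / 16) * (dotL x (rootN (pr i)) / 16)).sum) % 2 == 0) = true := by
  decide +kernel

/-- the class of a root modulo two determines it up to sign -/
theorem perp_fibre : perp8.all (fun x => (List.range 8).all fun j =>
    !((List.range 6).all fun k =>
      (dotL x (rootN (pr k)) / 16 - dotL (rootN j) (rootN (pr k)) / 16) % 2 == 0) ||
    (x == rootN j || x == (rootN j).map Neg.neg)) = true := by decide +kernel

/-- inner products with the listed roots -/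
def sig8 (x : List ℤ) : List ℤ := (List.range 8).map fun j => dotL x (rootN j)

theorem sig8_nodup : (perp8.map sig8).Nodup := by decide +kernel

theorem perp_neg : perp8.all (fun x => perp8.contains (x.map Neg.neg) &&
    sig8 (x.map Neg.neg) == (sig8 x).map Neg.neg) = true := by decide +kernel


end CfsgLib.Co2Invol
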